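import Mathlib
import Cfsg.Agent.Lib.PLocal.Thompson
import Cfsg.Agent.Lib.PGroups.Omega
import Cfsg.Agent.Lib.PGroups.UniqueInvolution
import Cfsg.Agent.Lib.TwoClassSizes.Tools

/-!
# Camina pairs: the trichotomy

`N` is normal and for `g ∉ N` the coset `gN` lies in the class of `g`.
Either every element outside `N` acts fixed-point-freely on `N`, or `N` or `G/N` has prime-power order.

The proof is elementary: with `q ≠ p` dividing `|N|` take a minimal supplement `H` to `N` inside the
normalizer of a Sylow `q`-subgroup of `N`; then `H ∩ N` is nilpotent, and averaging arguments on the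
modules `Z(Q)`, `Z(O_p(H ∩ N))` force a Sylow subgroup of `G/N` to have only comparable commuting
pairs, which the equation `|C_G(g)| = |C_{G/N}(gN)|` forbids.
-/

set_option autoImplicit false

namespace Cfsg.Agent.Lib.CaminaPair

open Subgroup

section Averaging

variable {W : Type*} [CommGroup W] [Finite W]

theorem eq_one_of_pow_eq_one {p : ℕ} (hcop : (Nat.card W).Coprime p) {w : W} (h : w ^ p = 1) :
    w = 1 := by
  have h1 := Nat.dvd_gcd (orderOf_dvd_natCard w) (orderOf_dvd_of_pow_eq_one h)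
  rw [hcop.gcd_eq_one] at h1
  exact orderOf_eq_one_iff.mp (Nat.dvd_one.mp h1)

omit [Finite W] in
/-- The product over the orbit of a fixed-point-free automorphism of prime order is trivial. -/
theorem orbit_prod_eq_one {p : ℕ} [hp : Fact p.Prime] {e : MulAut W} (he : orderOf e = p)
    (hfix : ∀ w : W, e w = w → w = 1) (w : W) : ∏ j ∈ Finset.range p, (e ^ j) w = 1 := by
  apply hfix
  rw [map_prod]
  have h1 : ∀ j, e ((e ^ j) w) = (e ^ (j + 1)) w := fun j => by rw [pow_succ']; rfl
  simp_rw [h1]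
  have h2 := Finset.prod_range_succ' (fun j => (e ^ j) w) p
  rw [Finset.prod_range_succ, show (e ^ p) w = (e ^ 0) w by rw [← he, pow_orderOf_eq_one]; rfl] at h2
  exact (mul_right_cancel h2).symm

/-- A group of fixed-point-free automorphisms has no elementary abelian subgroup of rank 2. -/
theorem mem_zpowers_of_commute {p : ℕ} [hp : Fact p.Prime] (hcop : (Nat.card W).Coprime p)
    [Nontrivial W] {e f : MulAut W} (hc : Commute e f) (he : orderOf e = p) (hf : orderOf f = p)
    (hfree : ∀ a ∈ closure ({e, f} : Set (MulAut W)), a ≠ 1 → ∀ w : W, a w = w → w = 1) :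
    f ∈ zpowers e := by
  by_contra hnot
  obtain ⟨w, hw⟩ := exists_ne (1 : W)
  apply hw
  have hfmem : f ∈ closure ({e, f} : Set (MulAut W)) := subset_closure (by simp)
  have hemem : e ∈ closure ({e, f} : Set (MulAut W)) := subset_closure (by simp)
  have hf1 : f ≠ 1 := fun h => by rw [h, orderOf_one] at hf; exact hp.out.ne_one hf.symm
  have hne : ∀ i : ℕ, e * f ^ i ≠ 1 := by
    intro i h
    apply hnot
    have hei : e = (f ^ i)⁻¹ := eq_inv_of_mul_eq_one_left h
    have hez : e ∈ zpowers f := hei ▸ inv_mem (pow_mem (mem_zpowers f) i)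
    have heq : zpowers e = zpowers f := eq_of_le_of_card_ge (zpowers_le.mpr hez)
      (by rw [Nat.card_zpowers, Nat.card_zpowers, he, hf])
    exact heq ▸ mem_zpowers f
  have hord : ∀ i : ℕ, orderOf (e * f ^ i) = p := fun i => orderOf_eq_prime (by
    rw [(hc.pow_right i).mul_pow, ← pow_mul, mul_comm i, pow_mul, ← hf, pow_orderOf_eq_one, one_pow,
      hf, ← he, pow_orderOf_eq_one, mul_one]) (hne i)
  have hsum : ∏ i ∈ Finset.range p, ∏ j ∈ Finset.range p, ((e * f ^ i) ^ j) w = 1 :=
    Finset.prod_eq_one fun i _ => orbit_prod_eq_one (hord i)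
      (hfree _ (mul_mem hemem (pow_mem hfmem i)) (hne i)) w
  rw [Finset.prod_comm, Finset.prod_eq_single_of_mem 0 (Finset.mem_range.mpr hp.out.pos)] at hsum
  · simp only [pow_zero, MulAut.one_apply, Finset.prod_const, Finset.card_range] at hsum
    exact eq_one_of_pow_eq_one hcop hsum
  intro j hj hj0
  have horb := orbit_prod_eq_one hf (hfree f hfmem hf1) w
  have hexp : ∀ i, ((e * f ^ i) ^ j) w = (e ^ j) ((f ^ (i * j)) w) := fun i => by
    rw [(hc.pow_right i).mul_pow, ← pow_mul]; rfl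
  simp_rw [hexp]
  rw [← map_prod]
  have hcopj : j.Coprime p := ((hp.out.coprime_iff_not_dvd).mpr fun hd =>
    hj0 (Nat.eq_zero_of_dvd_of_lt hd (Finset.mem_range.mp hj))).symm
  have hre : ∏ i ∈ Finset.range p, (f ^ (i * j)) w = ∏ i ∈ Finset.range p, (f ^ i) w := by
    refine Finset.prod_bij (fun i _ => i * j % p) (fun i _ => Finset.mem_range.mpr (Nat.mod_lt _ hp.out.pos))
      (fun a ha b hb h => ?_) ?_ (fun i _ => ?_)
    · have h1 : a ≡ b [MOD p] := Nat.ModEq.cancel_right_of_coprime hcopj.symm h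
      rwa [Nat.ModEq, Nat.mod_eq_of_lt (Finset.mem_range.mp ha),
        Nat.mod_eq_of_lt (Finset.mem_range.mp hb)] at h1
    · refine fun b hb => Finset.surj_on_of_inj_on_of_card_le (fun i _ => i * j % p)
        (fun i _ => Finset.mem_range.mpr (Nat.mod_lt _ hp.out.pos)) (fun a b ha hb h => ?_) le_rfl b hb
        |>.imp fun a ⟨ha, h⟩ => ⟨ha, h.symm⟩
      have h1 : a ≡ b [MOD p] := Nat.ModEq.cancel_right_of_coprime hcopj.symm h
      rwa [Nat.ModEq, Nat.mod_eq_of_lt (Finset.mem_range.mp ha),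
        Nat.mod_eq_of_lt (Finset.mem_range.mp hb)] at h1
    · rw [← pow_mod_orderOf, hf]
  rw [hre, horb, map_one]

/-- In a group of fixed-point-free automorphisms of `p`-power order, commuting elements are
comparable. -/
theorem comparable {p : ℕ} [hp : Fact p.Prime] (hcop : (Nat.card W).Coprime p) [Nontrivial W]
    {A : Subgroup (MulAut W)} (hA : IsPGroup p A)
    (hfree : ∀ a ∈ A, a ≠ 1 → ∀ w : W, a w = w → w = 1) {a b : MulAut W} (ha : a ∈ A) (hb : b ∈ A)
    (hab : Commute a b) : a ∈ zpowers b ∨ b ∈ zpowers a := by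
  classical
  have : Finite (MulAut W) := Finite.of_injective (fun e : MulAut W => (e : W → W)) DFunLike.coe_injective
  set U : Subgroup (MulAut W) := closure ({a, b} : Set (MulAut W)) with hU
  have hUA : U ≤ A := (closure_le A).mpr (Set.insert_subset ha (Set.singleton_subset_iff.mpr hb))
  haveI : IsMulCommutative U := isMulCommutative_closure (by
    rintro x (rfl | rfl) y (rfl | rfl)
    · rfl
    · exact hab
    · exact hab.symm
    · rfl)
  have hcyc : IsCyclic U := by
    haveI hUp : IsPGroup p U := hA.to_le hUA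
    by_cases hex : ∃ e : U, orderOf e = p
    swap
    · haveI : Subsingleton U := by
        rw [← not_nontrivial_iff_subsingleton]
        intro hnt
        obtain ⟨k, hk, hc⟩ := hUp.nontrivial_iff_card.mp hnt
        exact hex (exists_prime_orderOf_dvd_card' p (hc ▸ dvd_pow_self p (by omega)))
      exact isCyclic_of_subsingleton
    obtain ⟨e, he⟩ := hex
    have hline : ∀ f : U, orderOf f = p → f ∈ zpowers e := by
      intro f hf
      have hcm : Commute (e : MulAut W) f := congrArg Subtype.val (mul_comm' e f)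
      have h1 : (f : MulAut W) ∈ zpowers (e : MulAut W) :=
        mem_zpowers_of_commute hcop hcm (by rwa [orderOf_coe]) (by rwa [orderOf_coe])
          (fun x hx => hfree x (hUA ((closure_le U).mpr
            (Set.insert_subset e.2 (Set.singleton_subset_iff.mpr f.2)) hx)))
      obtain ⟨i, hi⟩ := mem_zpowers_iff.mp h1
      exact mem_zpowers_iff.mpr ⟨i, Subtype.ext hi⟩
    refine PGroups.isCyclic_of_comm_omega inferInstance hUp ?_
    have hsub : Cfsg.omegaOne p U ≤ zpowers (e : MulAut W) := by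
      refine (closure_le _).mpr fun x hx => ?_
      rcases eq_or_ne x 1 with rfl | hx1
      · exact one_mem _
      · obtain ⟨i, hi⟩ := mem_zpowers_iff.mp
          (hline ⟨x, hx.1⟩ (by rw [← orderOf_coe]; exact orderOf_eq_prime hx.2 hx1))
        exact mem_zpowers_iff.mpr ⟨i, congrArg Subtype.val hi⟩
    refine (card_le_of_le hsub).trans (le_of_eq ?_)
    rw [Nat.card_zpowers, orderOf_coe, he]
  obtain ⟨g, hg⟩ := hcyc.exists_generator
  have hgp : ∃ k, orderOf g = p ^ k := IsPGroup.iff_orderOf.mp (hA.to_le hUA) g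
  obtain ⟨k, hk⟩ := hgp
  -- in a cyclic `p`-group the cyclic subgroups form a chain
  have hchain : ∀ i j : ℕ, g ^ i ∈ zpowers (g ^ j) ∨ g ^ j ∈ zpowers (g ^ i) := by
    intro i j
    have key : ∀ i : ℕ, zpowers (g ^ i) = zpowers (g ^ (Nat.gcd (p ^ k) i)) := by
      intro i
      refine le_antisymm (zpowers_le.mpr ?_) (zpowers_le.mpr ?_)
      · obtain ⟨c, hc⟩ := Nat.gcd_dvd_right (p ^ k) i
        rw [show g ^ i = (g ^ Nat.gcd (p ^ k) i) ^ c by rw [← pow_mul, ← hc]]
        exact pow_mem (mem_zpowers _) c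
      · rw [mem_zpowers_iff]
        refine ⟨Nat.gcdB (p ^ k) i, ?_⟩
        rw [← zpow_natCast g (Nat.gcd _ _), Nat.gcd_eq_gcd_ab, zpow_add, zpow_mul, zpow_natCast,
          ← hk, pow_orderOf_eq_one, one_zpow, one_mul, zpow_mul, zpow_natCast]
    obtain ⟨s, -, hs⟩ := (Nat.dvd_prime_pow hp.out).mp (Nat.gcd_dvd_left (p ^ k) i)
    obtain ⟨t, -, ht⟩ := (Nat.dvd_prime_pow hp.out).mp (Nat.gcd_dvd_left (p ^ k) j)
    rcases le_total t s with hle | hle
    · left
      rw [key j, ht]
      have : g ^ i ∈ zpowers (g ^ p ^ s) := hs ▸ key i ▸ mem_zpowers _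
      refine zpowers_le.mpr ?_ this
      obtain ⟨d, hd⟩ := Nat.pow_dvd_pow p hle
      rw [hd, pow_mul]; exact pow_mem (mem_zpowers _) d
    · right
      rw [key i, hs]
      have : g ^ j ∈ zpowers (g ^ p ^ t) := ht ▸ key j ▸ mem_zpowers _
      refine zpowers_le.mpr ?_ this
      obtain ⟨d, hd⟩ := Nat.pow_dvd_pow p hle
      rw [hd, pow_mul]; exact pow_mem (mem_zpowers _) d
  obtain ⟨i, hi⟩ := (isOfFinOrder_of_finite g).mem_powers_iff_mem_zpowers.mpr (hg ⟨a, subset_closure (by simp)⟩)
  obtain ⟨j, hj⟩ := (isOfFinOrder_of_finite g).mem_powers_iff_mem_zpowers.mpr (hg ⟨b, subset_closure (by simp)⟩)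
  have hi' : (g : MulAut W) ^ i = a := congrArg Subtype.val hi
  have hj' : (g : MulAut W) ^ j = b := congrArg Subtype.val hj
  rw [← hi', ← hj']
  rcases hchain i j with h | h <;> obtain ⟨m, hm⟩ := mem_zpowers_iff.mp h
  · exact Or.inl (mem_zpowers_iff.mpr ⟨m, congrArg Subtype.val hm⟩)
  · exact Or.inr (mem_zpowers_iff.mpr ⟨m, congrArg Subtype.val hm⟩)

/-- A Frobenius group `D⟨u⟩` whose complement acts fixed-point-freely has kernel acting trivially. -/
theorem frobenius_kernel_trivial {H : Type*} [Group H] [Finite H] (φ : H →* MulAut W)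
    (D : Subgroup H) {r : ℕ} [hr : Fact r.Prime] {u : H} (hu : orderOf u = r)
    (hnorm : u ∈ normalizer (D : Set H))
    (hfree : ∀ d ∈ D, Commute u d → d = 1) (hufix : ∀ w, φ u w = w → w = 1)
    (hcop : (Nat.card W).Coprime (Nat.card D)) :
    ∀ d ∈ D, φ d = 1 := by
  classical
  have := Fintype.ofFinite D
  intro d₀ hd₀
  apply MulEquiv.ext
  intro w
  show φ d₀ w = w
  let S : W → W := fun v => ∏ d : D, φ (d : H) v
  have hSfix : ∀ v, φ d₀ (S v) = S v := by
    intro v
    simp only [S]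
    rw [map_prod]
    refine Fintype.prod_equiv (Equiv.mulLeft (⟨d₀, hd₀⟩ : D)) _ _ fun d => ?_
    rw [Equiv.coe_mulLeft, Subgroup.coe_mul, map_mul]
    rfl
  have hpowN : ∀ j : ℕ, u ^ j ∈ normalizer (D : Set H) := fun j => pow_mem hnorm j
  have hSu : ∀ (j : ℕ) v, φ (u ^ j) (S v) = S (φ (u ^ j) v) := by
    intro j v
    simp only [S]
    rw [map_prod]
    let e : D ≃ D :=
      { toFun := fun d => ⟨u ^ j * d * (u ^ j)⁻¹, (mem_normalizer_iff.mp (hpowN j) _).mp d.2⟩
        invFun := fun d => ⟨(u ^ j)⁻¹ * d * u ^ j, (mem_normalizer_iff.mp (hpowN j) _).mpr (by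
          simp [mul_assoc])⟩
        left_inv := fun d => Subtype.ext (by simp [mul_assoc])
        right_inv := fun d => Subtype.ext (by simp [mul_assoc]) }
    refine Fintype.prod_equiv e _ _ fun d => ?_
    show φ (u ^ j) (φ (d : H) v) = φ (u ^ j * d * (u ^ j)⁻¹) (φ (u ^ j) v)
    simp only [map_mul, map_inv, MulAut.mul_apply, MulAut.inv_apply_self]
  have hord : orderOf (φ u) = r ∨ ∀ v : W, v = 1 := by
    by_cases h : φ u = 1
    · exact Or.inr fun v => hufix v (by rw [h]; rfl)
    · exact Or.inl (orderOf_eq_prime (by rw [← map_pow, ← hu, pow_orderOf_eq_one, map_one]) h)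
  rcases hord with hord | htriv
  swap
  · rw [htriv w, map_one]
  have hconj : ∀ d : D, ∏ j ∈ Finset.range r, φ ((d : H) * u ^ j * (d : H)⁻¹) w = 1 := by
    intro d
    have h1 := orbit_prod_eq_one hord hufix ((φ (d : H))⁻¹ w)
    have h2 := congrArg (φ (d : H)) h1
    rw [map_prod, map_one] at h2
    refine Eq.trans (Finset.prod_congr rfl fun j _ => ?_) h2
    rw [map_mul, map_mul, map_pow, map_inv, MulAut.mul_apply, MulAut.mul_apply]
  have hdbl : ∏ j ∈ Finset.range r, ∏ d : D, φ ((d : H) * u ^ j * (d : H)⁻¹) w = 1 := by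
    rw [Finset.prod_comm]
    exact Finset.prod_eq_one fun d _ => hconj d
  have hj : ∀ j ∈ Finset.range r, j ≠ 0 →
      ∏ d : D, φ ((d : H) * u ^ j * (d : H)⁻¹) w = S (φ (u ^ j) w) := by
    intro j hj hj0
    let f : D → D := fun d => d * ⟨u ^ j * (d : H)⁻¹ * (u ^ j)⁻¹,
      (mem_normalizer_iff.mp (hpowN j) _).mp (inv_mem d.2)⟩
    have hfinj : Function.Injective f := by
      intro a b hab
      have hab' : (a : H) * (u ^ j * (a : H)⁻¹ * (u ^ j)⁻¹) = (b : H) * (u ^ j * (b : H)⁻¹ * (u ^ j)⁻¹) :=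
        congrArg Subtype.val hab
      have hc : Commute (u ^ j) ((b : H)⁻¹ * a) := by
        have h1 : (b : H)⁻¹ * a * (u ^ j) = u ^ j * ((b : H)⁻¹ * a) := by
          calc (b : H)⁻¹ * a * u ^ j
              = (b : H)⁻¹ * ((a : H) * (u ^ j * (a : H)⁻¹ * (u ^ j)⁻¹)) * u ^ j * a := by group
            _ = (b : H)⁻¹ * ((b : H) * (u ^ j * (b : H)⁻¹ * (u ^ j)⁻¹)) * u ^ j * a := by rw [hab']
            _ = _ := by group
        exact h1.symm
      have hcop' : (orderOf u).Coprime j := by
        rw [hu]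
        exact (hr.out.coprime_iff_not_dvd).mpr fun hd =>
          hj0 (Nat.eq_zero_of_dvd_of_lt hd (Finset.mem_range.mp hj))
      obtain ⟨k, hk⟩ := exists_pow_eq_self_of_coprime hcop'.symm
      have h3 := hc.pow_left k
      rw [hk] at h3
      have h2 := hfree _ (mul_mem (inv_mem b.2) a.2) h3
      exact Subtype.ext (inv_mul_eq_one.mp h2).symm
    refine Fintype.prod_bijective f ⟨hfinj, Finite.injective_iff_surjective.mp hfinj⟩ _ _ fun d => ?_
    show _ = φ ((d : H) * (u ^ j * (d : H)⁻¹ * (u ^ j)⁻¹)) (φ (u ^ j) w)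
    rw [← MulAut.mul_apply, ← map_mul]
    congr 2
    group
  rw [← Finset.prod_erase_mul _ _ (Finset.mem_range.mpr hr.out.pos),
    Finset.prod_congr rfl fun j hj' => hj j (Finset.mem_erase.mp hj').2 (Finset.mem_erase.mp hj').1] at hdbl
  have h0 : ∏ d : D, φ ((d : H) * u ^ 0 * (d : H)⁻¹) w = w ^ Fintype.card D := by
    simp [Finset.card_univ]
  rw [h0] at hdbl
  have hS1 := orbit_prod_eq_one hord hufix (S w)
  rw [← Finset.prod_erase_mul _ _ (Finset.mem_range.mpr hr.out.pos),
    Finset.prod_congr rfl fun j _ => by rw [← map_pow, hSu], pow_zero, MulAut.one_apply] at hS1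
  have hkey : w ^ Fintype.card D = S w := mul_left_cancel (hdbl.trans hS1.symm)
  refine (powCoprime (hcop : (Nat.card W).Coprime (Nat.card D))).injective ?_
  show (φ d₀ w) ^ Nat.card D = w ^ Nat.card D
  rw [Nat.card_eq_fintype_card, ← map_pow, hkey, hSfix]

end Averaging

variable {G : Type*} [Group G] [Finite G] (N : Subgroup G) [N.Normal]

/-- The Camina condition. -/
def IsCamina : Prop := ∀ g : G, g ∉ N → ∀ n ∈ N, ∃ x : G, x * g * x⁻¹ = g * n

variable {N}

omit [Finite G] [N.Normal] in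
theorem pow_eq_one (hc : IsCamina N) {g n : G} (hg : g ∉ N) (hn : n ∈ N) (h : Commute g n) :
    n ^ orderOf g = 1 := by
  obtain ⟨x, hx⟩ := hc g hg n hn
  have h1 : (g * n) ^ orderOf g = 1 := by
    rw [← hx, conj_pow, pow_orderOf_eq_one, mul_one, mul_inv_cancel]
  rwa [h.mul_pow, pow_orderOf_eq_one, one_mul] at h1

theorem card_centralizer_eq (hc : IsCamina N) {g : G} (hg : g ∉ N) :
    Nat.card (centralizer ({g} : Set G)) =
      Nat.card (centralizer ({QuotientGroup.mk' N g} : Set (G ⧸ N))) := by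
  have hidx : ∀ {K : Type _} [Group K] (x : K),
      (ConjClasses.mk x).carrier.ncard = (centralizer ({x} : Set K)).index := fun {K} _ x => by
    rw [← Nat.card_coe_set_eq, ← ConjAct.orbit_eq_carrier_conjClasses]
    have : MulAction.stabilizer (ConjAct K) x = centralizer {x} :=
      ConjAct.stabilizer_eq_centralizer x
    rw [Subgroup.index, ← this]
    exact Nat.card_congr (MulAction.orbitEquivQuotientStabilizer (ConjAct K) x)
  have hset : QuotientGroup.mk ⁻¹' (ConjClasses.mk (QuotientGroup.mk' N g)).carrier =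
      (ConjClasses.mk g).carrier := by
    ext y
    rw [Set.mem_preimage, ConjClasses.mem_carrier_iff_mk_eq, ConjClasses.mem_carrier_iff_mk_eq,
      ConjClasses.mk_eq_mk_iff_isConj, ConjClasses.mk_eq_mk_iff_isConj, isConj_comm,
      isConj_comm (g := y), isConj_iff, isConj_iff]
    constructor
    · rintro ⟨c, hcy⟩
      obtain ⟨c, rfl⟩ := QuotientGroup.mk'_surjective N c
      have h1 : QuotientGroup.mk' N (c * g * c⁻¹) = QuotientGroup.mk' N y := by
        simpa [map_mul, map_inv] using hcy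
      obtain ⟨n, hn, rfl⟩ := (QuotientGroup.mk'_eq_mk' N).mp h1
      have hn' : c⁻¹ * n * c ∈ N := by simpa using ‹N.Normal›.conj_mem n hn c⁻¹
      obtain ⟨x, hx⟩ := hc g hg _ hn'
      exact ⟨c * x, by rw [show c * x * g * (c * x)⁻¹ = c * (x * g * x⁻¹) * c⁻¹ by group, hx]; group⟩
    · rintro ⟨c, rfl⟩
      exact ⟨QuotientGroup.mk' N c, by simp [map_mul, map_inv]⟩
  have h1 := QuotientGroup.card_preimage_mk N (ConjClasses.mk (QuotientGroup.mk' N g)).carrier
  rw [hset, Nat.card_coe_set_eq, Nat.card_coe_set_eq, hidx, hidx] at h1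
  have h2 := (centralizer ({g} : Set G)).index_mul_card
  have h3 := (centralizer ({QuotientGroup.mk' N g} : Set (G ⧸ N))).index_mul_card
  have h4 := N.card_mul_index
  rw [Subgroup.index, ← h3] at h4
  have h5 : 0 < (centralizer ({QuotientGroup.mk' N g} : Set (G ⧸ N))).index :=
    Nat.pos_of_ne_zero index_ne_zero_of_finite
  refine Nat.eq_of_mul_eq_mul_left (Nat.mul_pos (Nat.card_pos (α := N)) h5) ?_
  conv_lhs => rw [← h1, h2]
  rw [← h4]
  ring

/-- If commuting `p`-elements of `G/N` are comparable, then `p` does not divide both orders. -/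
theorem false_of_comparable (hc : IsCamina N) {p : ℕ} [hp : Fact p.Prime] (hpN : p ∣ Nat.card N)
    (hpi : p ∣ N.index)
    (hcmp : ∀ a b : G ⧸ N, (∃ k, a ^ p ^ k = 1) → (∃ k, b ^ p ^ k = 1) → Commute a b →
      a ∈ zpowers b ∨ b ∈ zpowers a) : False := by
  classical
  have := Fintype.ofFinite (G ⧸ N)
  let T : Finset (G ⧸ N) := Finset.univ.filter fun a => ∃ k, a ^ p ^ k = 1
  obtain ⟨a, haT, hamax⟩ := Finset.exists_max_image T orderOf
    ⟨1, Finset.mem_filter.mpr ⟨Finset.mem_univ _, 0, one_pow _⟩⟩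
  obtain ⟨-, k, hak⟩ := Finset.mem_filter.mp haT
  obtain ⟨e, he⟩ := exists_prime_orderOf_dvd_card' p (G := G ⧸ N) hpi
  have hap : p ≤ orderOf a := he ▸ hamax e (Finset.mem_filter.mpr ⟨Finset.mem_univ _, 1, by
    rw [pow_one, ← he, pow_orderOf_eq_one]⟩)
  obtain ⟨K, -, hKa⟩ := (Nat.dvd_prime_pow hp.out).mp (orderOf_dvd_of_pow_eq_one hak)
  -- a lift which is a `p`-element
  obtain ⟨g, hga, hgp⟩ : ∃ g : G, QuotientGroup.mk' N g = a ∧ ∃ j, orderOf g = p ^ j := by
    obtain ⟨g₀, rfl⟩ := QuotientGroup.mk'_surjective N a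
    obtain ⟨m, hm⟩ : ∃ m, orderOf g₀ = p ^ (orderOf g₀).factorization p * m :=
      ⟨_, (Nat.ordProj_mul_ordCompl_eq_self (orderOf g₀) p).symm⟩
    have hmp : m.Coprime p := by
      refine ((hp.out.coprime_iff_not_dvd).mpr fun hd => ?_).symm
      refine Nat.pow_succ_factorization_not_dvd (orderOf_pos g₀).ne' hp.out ?_
      rw [pow_succ]
      exact (Nat.mul_dvd_mul_left _ hd).trans hm.symm.dvd
    have hcop : m.Coprime (orderOf (QuotientGroup.mk' N g₀)) := hKa ▸ hmp.pow_right K
    obtain ⟨c, hc'⟩ := exists_pow_eq_self_of_coprime hcop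
    refine ⟨(g₀ ^ m) ^ c, by rw [map_pow, map_pow, hc'], ?_⟩
    obtain ⟨j, -, hj⟩ := (Nat.dvd_prime_pow hp.out).mp (orderOf_dvd_of_pow_eq_one
      (x := (g₀ ^ m) ^ c) (n := p ^ (orderOf g₀).factorization p) (by
        rw [← pow_mul, ← pow_mul, show m * (c * p ^ (orderOf g₀).factorization p) =
          (p ^ (orderOf g₀).factorization p * m) * c by ring, ← hm, pow_mul, pow_orderOf_eq_one, one_pow]))
    exact ⟨j, hj⟩
  have hgN : g ∉ N := by
    intro h
    have : a = 1 := hga ▸ (QuotientGroup.eq_one_iff g).mpr h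
    rw [this, orderOf_one] at hap
    exact absurd hap (not_le.mpr hp.out.one_lt)
  -- the Sylow subgroups of the two centralizers
  set C := centralizer ({g} : Set G) with hC
  set C' := centralizer ({a} : Set (G ⧸ N)) with hC'
  have hcard : Nat.card C = Nat.card C' := by rw [hC', ← hga]; exact card_centralizer_eq hc hgN
  obtain ⟨S'⟩ : Nonempty (Sylow p C') := inferInstance
  have hS' : Nat.card (S' : Subgroup C') ≤ orderOf a := by
    rw [← Nat.card_zpowers, ← card_map_of_injective C'.subtype_injective]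
    refine Nat.le_of_dvd Nat.card_pos (card_dvd_of_le ?_)
    rintro _ ⟨y, hy, rfl⟩
    obtain ⟨j, hj⟩ := S'.isPGroup' ⟨y, hy⟩
    have hy' : (y : G ⧸ N) ^ p ^ j = 1 := congrArg Subtype.val (congrArg Subtype.val hj)
    have hcy : Commute a (y : G ⧸ N) := (mem_centralizer_singleton_iff.mp y.2).symm
    rcases hcmp a y ⟨k, hak⟩ ⟨j, hy'⟩ hcy with h | h
    · have hle := hamax _ (Finset.mem_filter.mpr ⟨Finset.mem_univ _, j, hy'⟩)
      have heq : zpowers a = zpowers (y : G ⧸ N) := eq_of_le_of_card_ge (zpowers_le.mpr h)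
        (by rwa [Nat.card_zpowers, Nat.card_zpowers])
      exact heq ▸ mem_zpowers _
    · exact h
  obtain ⟨S⟩ : Nonempty (Sylow p C) := inferInstance
  have hSS : Nat.card (S : Subgroup C) = Nat.card (S' : Subgroup C') := by
    rw [S.card_eq_multiplicity, S'.card_eq_multiplicity, hcard]
  obtain ⟨P, hP⟩ := (IsPGroup.of_card (p := p) (n := hgp.choose)
    (by rw [Nat.card_zpowers]; exact hgp.choose_spec) : IsPGroup p (zpowers g)).exists_le_sylow
  have hne : N.subgroupOf (P : Subgroup G) ≠ ⊥ := by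
    intro h
    have h1 : (P : Subgroup G) ⊓ N = ⊥ := by
      rw [inf_comm, ← Subgroup.subgroupOf_map_subtype, h, Subgroup.map_bot]
    exact PLocal.not_dvd_relIndex_inf P N (by rw [h1, relIndex_bot_left]; exact hpN)
  obtain ⟨c, hcm, hc1⟩ := (bot_or_exists_ne_one _).resolve_left
    (PGroups.normal_inf_center_ne_bot P.isPGroup' (N.subgroupOf (P : Subgroup G)) hne)
  set cG : G := ((c : (P : Subgroup G)) : G) with hcG
  have hcomm : Commute g cG :=
    congrArg Subtype.val (mem_center_iff.mp hcm.2 ⟨g, hP (mem_zpowers g)⟩)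
  let U : Subgroup G := closure {g, cG}
  have hUP : U ≤ (P : Subgroup G) := (closure_le _).mpr
    (Set.insert_subset (hP (mem_zpowers g)) (Set.singleton_subset_iff.mpr (c : (P : Subgroup G)).2))
  have hUC : U ≤ C := (closure_le _).mpr (Set.insert_subset (mem_centralizer_singleton_iff.mpr rfl)
    (Set.singleton_subset_iff.mpr (mem_centralizer_singleton_iff.mpr hcomm.eq.symm)))
  have hUle : Nat.card U ≤ orderOf a := by
    refine le_trans ?_ (hSS ▸ hS')
    obtain ⟨R, hR⟩ := ((P.isPGroup'.to_le hUP).comap_subtype : IsPGroup p (U.subgroupOf C)).exists_le_sylow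
    rw [← Nat.card_congr (subgroupOfEquivOfLe hUC).toEquiv, S.card_eq_multiplicity, ← R.card_eq_multiplicity]
    exact Nat.le_of_dvd Nat.card_pos (card_dvd_of_le hR)
  have hge : orderOf a ≤ orderOf g := Nat.le_of_dvd (orderOf_pos g) (hga ▸ orderOf_map_dvd _ g)
  have hzU : zpowers g ≤ U := zpowers_le.mpr (subset_closure (by simp))
  have hUz : zpowers g = U :=
    eq_of_le_of_card_ge hzU (by rw [Nat.card_zpowers]; exact hUle.trans hge)
  have hord : orderOf g = orderOf a :=
    le_antisymm (le_trans (by rw [← Nat.card_zpowers, hUz]) hUle) hge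
  obtain ⟨i, hi⟩ := mem_zpowers_iff.mp (hUz.ge (subset_closure (by simp) : cG ∈ U))
  have h1 : a ^ i = 1 := by
    rw [← hga, ← map_zpow, hi]; exact (QuotientGroup.eq_one_iff _).mpr (Subgroup.mem_subgroupOf.mp hcm.1)
  have h2 : g ^ i = 1 := orderOf_dvd_iff_zpow_eq_one.mp (hord ▸ orderOf_dvd_iff_zpow_eq_one.mpr h1)
  exact hc1 (Subtype.ext (hi.symm.trans h2))

end Cfsg.Agent.Lib.CaminaPair
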