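import Cfsg.Agent.Lib.CaminaPair.Basic

/-!
# Camina pairs: the trichotomy, main argument
-/

set_option autoImplicit false

namespace Cfsg.Agent.Lib.CaminaPair

open Subgroup

variable {G : Type*} [Group G] [Finite G] {N : Subgroup G} [N.Normal]

omit [Finite G] [N.Normal] in
/-- The automorphisms of `W` induced by a subgroup of its normalizer. -/
def act {H W : Subgroup G} (h : H ≤ normalizer (W : Set G)) : H →* MulAut W :=
  (normalizerMonoidHom W).comp (inclusion h)

omit [Finite G] [N.Normal] in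
theorem act_apply {H W : Subgroup G} (h : H ≤ normalizer (W : Set G)) (x : H) (w : W) :
    ((act h x w : W) : G) = (x : G) * w * (x : G)⁻¹ := rfl

/-- A prime-power element outside `N` fixes only the identity of a coprime subgroup of `N`. -/
theorem act_fixed_eq_one (hc : IsCamina N) {H W : Subgroup G} (h : H ≤ normalizer (W : Set G))
    (hWN : W ≤ N) {x : H} (hx : (x : G) ∉ N) {p k : ℕ} (hxp : orderOf x = p ^ k)
    (hcop : (Nat.card W).Coprime p) {w : W} (hw : act h x w = w) : w = 1 := by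
  have hcomm : Commute (x : G) w := by
    have h1 := congrArg Subtype.val hw
    rw [act_apply] at h1
    exact mul_inv_eq_iff_eq_mul.mp h1
  have h2 := pow_eq_one hc hx (hWN w.2) hcomm
  rw [orderOf_coe, hxp] at h2
  have h3 : w ^ p ^ k = 1 := Subtype.ext h2
  have h4 := Nat.dvd_gcd (orderOf_dvd_natCard w) (orderOf_dvd_of_pow_eq_one h3)
  rw [(hcop.pow_right k).gcd_eq_one] at h4
  exact orderOf_eq_one_iff.mp (Nat.dvd_one.mp h4)

/-- If a supplement acts on a coprime abelian subgroup of `N` so that its `p`-elements inside `N` act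
trivially, then commuting `p`-elements of `G/N` are comparable. -/
theorem comparable_quotient (hc : IsCamina N) {H : Subgroup G} (hH : H ⊔ N = ⊤) {p : ℕ}
    [hp : Fact p.Prime] (S : Sylow p H) (W : Subgroup G) [IsMulCommutative W] (hW : W ≠ ⊥)
    (hWN : W ≤ N) (hcop : (Nat.card W).Coprime p) (hnorm : H ≤ normalizer (W : Set G))
    (htriv : ∀ x : H, x ∈ (S : Subgroup H) → (x : G) ∈ N → act hnorm x = 1) :
    ∀ a b : G ⧸ N, (∃ k, a ^ p ^ k = 1) → (∃ k, b ^ p ^ k = 1) → Commute a b →
      a ∈ zpowers b ∨ b ∈ zpowers a := by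
  classical
  haveI : Nontrivial W := (nontrivial_iff_ne_bot W).mpr hW
  set φ := act hnorm with hφ
  let f : H →* G ⧸ N := (QuotientGroup.mk' N).comp H.subtype
  have hf : Function.Surjective f := by
    rw [← MonoidHom.range_eq_top, MonoidHom.range_comp, range_subtype]
    have h1 := congrArg (Subgroup.map (QuotientGroup.mk' N)) hH
    rwa [Subgroup.map_sup, QuotientGroup.map_mk'_self, sup_bot_eq,
      map_top_of_surjective _ (QuotientGroup.mk'_surjective N)] at h1
  have hfree : ∀ x ∈ (S : Subgroup H), φ x ≠ 1 → ∀ w : W, φ x w = w → w = 1 := by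
    intro x hx hne w hw
    obtain ⟨k, hk⟩ := IsPGroup.iff_orderOf.mp S.isPGroup' ⟨x, hx⟩
    rw [orderOf_mk] at hk
    exact act_fixed_eq_one hc hnorm hWN (fun h => hne (htriv x hx h)) hk hcop hw
  have hA : IsPGroup p ((S : Subgroup H).map φ) := S.isPGroup'.map φ
  -- the statement for elements of a fixed Sylow subgroup
  have key : ∀ x ∈ (S : Subgroup H), ∀ y ∈ (S : Subgroup H), Commute (f x) (f y) →
      f x ∈ zpowers (f y) ∨ f y ∈ zpowers (f x) := by
    intro x hx y hy hcm
    have hcφ : Commute (φ x) (φ y) := by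
      have hz : x * y * x⁻¹ * y⁻¹ ∈ (S : Subgroup H) :=
        mul_mem (mul_mem (mul_mem hx hy) (inv_mem hx)) (inv_mem hy)
      have hzN : ((x * y * x⁻¹ * y⁻¹ : H) : G) ∈ N := by
        rw [← QuotientGroup.eq_one_iff]
        show f (x * y * x⁻¹ * y⁻¹) = 1
        rw [map_mul, map_mul, map_mul, map_inv, map_inv, hcm.eq]
        group
      have h1 := htriv _ hz hzN
      rw [map_mul, map_mul, map_mul, map_inv, map_inv, mul_inv_eq_one, mul_inv_eq_iff_eq_mul] at h1
      exact h1
    have hfin : Finite (MulAut W) := Finite.of_injective (fun e : MulAut W => (e : W → W)) DFunLike.coe_injective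
    have haux : ∀ u v : H, u ∈ (S : Subgroup H) → v ∈ (S : Subgroup H) → φ u ∈ zpowers (φ v) →
        f u ∈ zpowers (f v) := by
      intro u v hu hv h
      obtain ⟨i, hi⟩ := mem_zpowers_iff.mp h
      have hd : u * (v ^ i)⁻¹ ∈ (S : Subgroup H) := mul_mem hu (inv_mem (zpow_mem hv i))
      have hdN : ((u * (v ^ i)⁻¹ : H) : G) ∈ N := by
        by_contra hdN
        obtain ⟨k, hk⟩ := IsPGroup.iff_orderOf.mp S.isPGroup' ⟨_, hd⟩
        rw [orderOf_mk] at hk
        obtain ⟨w, hw⟩ := exists_ne (1 : W)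
        refine hw (act_fixed_eq_one hc hnorm hWN hdN hk hcop ?_)
        rw [← hφ, map_mul, map_inv, map_zpow, hi, mul_inv_cancel]; rfl
      have h1 : f (u * (v ^ i)⁻¹) = 1 := (QuotientGroup.eq_one_iff _).mpr hdN
      rw [map_mul, map_inv, map_zpow, mul_inv_eq_one] at h1
      exact mem_zpowers_iff.mpr ⟨i, h1.symm⟩
    open scoped IsMulCommutative in
    rcases comparable hcop hA (fun a ha hne => by
        obtain ⟨u, hu, rfl⟩ := ha
        exact hfree u hu hne) (mem_map_of_mem φ hx) (mem_map_of_mem φ hy) hcφ with h | h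
    · exact Or.inl (haux x y hx hy h)
    · exact Or.inr (haux y x hy hx h)
  -- transport to all commuting pairs
  intro a b ⟨k, hak⟩ ⟨l, hbl⟩ hab
  haveI : IsMulCommutative (closure ({a, b} : Set (G ⧸ N))) := isMulCommutative_closure (by
    rintro x (rfl | rfl) y (rfl | rfl)
    · rfl
    · exact hab
    · exact hab.symm
    · rfl)
  have hP : IsPGroup p (closure ({a, b} : Set (G ⧸ N))) := by
    intro z
    refine ⟨k + l, Subtype.ext ?_⟩
    obtain ⟨z, hz⟩ := z
    show z ^ p ^ (k + l) = 1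
    induction hz using closure_induction with
    | mem x hx =>
      rcases hx with rfl | rfl
      · rw [pow_add, pow_mul, hak, one_pow]
      · rw [pow_add, mul_comm, pow_mul, hbl, one_pow]
    | one => exact one_pow _
    | mul x y hx hy ihx ihy =>
      have hxy : Commute x y :=
        congrArg Subtype.val (mul_comm' (⟨x, hx⟩ : closure ({a, b} : Set (G ⧸ N))) ⟨y, hy⟩)
      rw [hxy.mul_pow, ihx, ihy, one_mul]
    | inv x _ ih => rw [inv_pow, ih, inv_one]
  obtain ⟨T, hT⟩ := hP.exists_le_sylow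
  obtain ⟨c, hcT⟩ := MulAction.exists_smul_eq (G ⧸ N) T (S.mapSurjective hf)
  have hmem : ∀ z ∈ closure ({a, b} : Set (G ⧸ N)), ∃ x ∈ (S : Subgroup H), f x = c * z * c⁻¹ := by
    intro z hz
    have h1 : c * z * c⁻¹ ∈ (S.mapSurjective hf : Subgroup (G ⧸ N)) := by
      rw [← hcT, Sylow.coe_subgroup_smul]
      exact smul_mem_pointwise_smul z (MulAut.conj c) _ (hT hz)
    rw [Sylow.coe_mapSurjective] at h1
    exact h1
  obtain ⟨x, hx, hxa⟩ := hmem a (subset_closure (by simp))
  obtain ⟨y, hy, hyb⟩ := hmem b (subset_closure (by simp))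
  have hcm : Commute (f x) (f y) := by
    rw [hxa, hyb]
    exact (Commute.map hab (MulAut.conj c).toMonoidHom : Commute (c * a * c⁻¹) (c * b * c⁻¹))
  rcases key x hx y hy hcm with h | h <;> rw [hxa, hyb] at h <;>
    obtain ⟨i, hi⟩ := mem_zpowers_iff.mp h <;> rw [conj_zpow] at hi
  · exact Or.inl (mem_zpowers_iff.mpr ⟨i, mul_left_cancel (mul_right_cancel hi)⟩)
  · exact Or.inr (mem_zpowers_iff.mpr ⟨i, mul_left_cancel (mul_right_cancel hi)⟩)

/-- A subgroup normalised by `H` has centre normalised by `H`. -/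
theorem center_map_le_normalizer {H K : Subgroup G} (h : H ≤ normalizer (K : Set G)) :
    H ≤ normalizer (((center K).map K.subtype : Subgroup G) : Set G) := by
  have hle : ∀ g ∈ normalizer (K : Set G), ∀ z ∈ (center K).map K.subtype,
      g * z * g⁻¹ ∈ (center K).map K.subtype := by
    rintro g hg _ ⟨z, hz, rfl⟩
    refine ⟨⟨g * z * g⁻¹, (mem_normalizer_iff.mp hg _).mp z.2⟩, mem_center_iff.mpr fun w => ?_, rfl⟩
    have hw : g⁻¹ * w * g ∈ K := (mem_normalizer_iff.mp hg _).mpr (by
      rw [show g * (g⁻¹ * w * g) * g⁻¹ = (w : G) by group]; exact w.2)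
    have h1 : (g⁻¹ * w * g) * (z : G) = z * (g⁻¹ * w * g) :=
      congrArg Subtype.val (mem_center_iff.mp hz ⟨_, hw⟩)
    apply Subtype.ext
    show (w : G) * (g * z * g⁻¹) = g * z * g⁻¹ * w
    calc (w : G) * (g * z * g⁻¹) = g * ((g⁻¹ * w * g) * z) * g⁻¹ := by group
      _ = g * (z * (g⁻¹ * w * g)) * g⁻¹ := by rw [h1]
      _ = _ := by group
  intro g hg
  refine mem_normalizer_iff.mpr fun z => ⟨hle g (h hg) z, fun hz => ?_⟩
  have := hle g⁻¹ (inv_mem (h hg)) _ hz
  rwa [show g⁻¹ * (g * z * g⁻¹) * g⁻¹⁻¹ = z by group] at this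

theorem exists_prime_ne {n p : ℕ} (hn : n ≠ 0) (hp : p.Prime) (hpn : p ∣ n) (h : ¬ IsPrimePow n) :
    ∃ q : ℕ, q.Prime ∧ q ∣ n ∧ q ≠ p := by
  by_contra hno
  push Not at hno
  have h1 := Nat.eq_prime_pow_of_unique_prime_dvd hn fun {d} hd hdn => hno d hd hdn
  apply h
  rw [h1]
  refine IsPrimePow.pow hp.isPrimePow fun h0 => ?_
  rw [h0, pow_zero] at h1
  exact hp.ne_one (Nat.dvd_one.mp (h1 ▸ hpn))

/-- If `p` divides `|N|` and `|G : N|`, then one of these is a prime power. -/
theorem isPrimePow_or (hc : IsCamina N) {p : ℕ} [hp : Fact p.Prime] (hpN : p ∣ Nat.card N)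
    (hpi : p ∣ N.index) : IsPrimePow (Nat.card N) ∨ IsPrimePow N.index := by
  classical
  by_contra hno
  push Not at hno
  obtain ⟨q, hq, hqN, hqp⟩ := exists_prime_ne Nat.card_pos.ne' hp.out hpN hno.1
  obtain ⟨r, hr, hri, hrp⟩ := exists_prime_ne index_ne_zero_of_finite hp.out hpi hno.2
  haveI := Fact.mk hq
  haveI := Fact.mk hr
  obtain ⟨Q⟩ : Nonempty (Sylow q N) := inferInstance
  set Qg : Subgroup G := (Q : Subgroup N).map N.subtype with hQg
  have hMtop : normalizer (Qg : Set G) ⊔ N = ⊤ := Sylow.normalizer_sup_eq_top Q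
  obtain ⟨H, hH, hmin⟩ := Set.Finite.exists_minimal
    (s := {T : Subgroup G | T ≤ normalizer (Qg : Set G) ∧ T ⊔ N = ⊤}) (Set.toFinite _)
    ⟨_, le_rfl, hMtop⟩
  obtain ⟨hHM, hHN⟩ := hH
  set D : Subgroup H := N.subgroupOf H with hD
  -- Sylow subgroups of `D` are normal in `H`
  have hDsyl : ∀ (s : ℕ) [Fact s.Prime] (S : Sylow s D), ((S : Subgroup D).map D.subtype).Normal := by
    intro s _ S
    rw [← normalizer_eq_top_iff]
    set K := normalizer (((S : Subgroup D).map D.subtype : Subgroup H) : Set H) with hK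
    have hfr : K ⊔ D = ⊤ := Sylow.normalizer_sup_eq_top S
    have hKH : K.map H.subtype ≤ H := map_subtype_le _
    have hKN : K.map H.subtype ⊔ N = ⊤ := by
      rw [eq_top_iff, ← hHN]
      refine sup_le ?_ le_sup_right
      calc H = (⊤ : Subgroup H).map H.subtype := by rw [← MonoidHom.range_eq_map, range_subtype]
        _ = (K ⊔ D).map H.subtype := by rw [hfr]
        _ ≤ _ := by
          rw [Subgroup.map_sup]
          exact sup_le_sup_left (by rw [hD, subgroupOf_map_subtype]; exact inf_le_left) _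
    apply map_injective H.subtype_injective
    rw [← MonoidHom.range_eq_map, range_subtype]
    exact le_antisymm hKH (hmin ⟨hKH.trans hHM, hKN⟩ hKH)
  -- the module `Z(Q)`
  set W : Subgroup G := (center Qg).map Qg.subtype with hWdef
  haveI hWc : IsMulCommutative W := ⟨⟨by
    rintro ⟨_, a, ha, rfl⟩ ⟨_, b, -, rfl⟩
    exact Subtype.ext (congrArg Subtype.val (mem_center_iff.mp ha b)).symm⟩⟩
  have hWN : W ≤ N := (map_subtype_le _).trans (map_subtype_le _)
  have hQgq : IsPGroup q Qg := Q.isPGroup'.map _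
  have hWq : IsPGroup q W := hQgq.to_le (map_subtype_le _)
  have hWne : W ≠ ⊥ := by
    have hQne : (Q : Subgroup N) ≠ ⊥ := Q.ne_bot_of_dvd_card hqN
    haveI : Nontrivial Qg := (nontrivial_iff_ne_bot _).mpr fun h => hQne
      ((map_eq_bot_iff_of_injective _ N.subtype_injective).mp h)
    haveI := hQgq.center_nontrivial
    exact fun h => (nontrivial_iff_ne_bot _).mp ‹Nontrivial (center Qg)›
      ((map_eq_bot_iff_of_injective _ Qg.subtype_injective).mp h)
  have hnorm : H ≤ normalizer (W : Set G) := center_map_le_normalizer hHM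
  have hWp : (Nat.card W).Coprime p := by
    obtain ⟨k, hk⟩ := IsPGroup.iff_card.mp hWq
    rw [hk]; exact ((Nat.coprime_primes hq hp.out).mpr hqp).pow_left k
  -- `D_p` and its centre
  obtain ⟨Dp⟩ : Nonempty (Sylow p D) := inferInstance
  set Dp' : Subgroup H := (Dp : Subgroup D).map D.subtype with hDp'
  haveI hDpn : Dp'.Normal := hDsyl p Dp
  have hDpN : ∀ x ∈ Dp', (x : G) ∈ N := by
    rintro _ ⟨y, -, rfl⟩; exact y.2
  have hDpp : IsPGroup p Dp' := Dp.isPGroup'.map _
  -- the `p`-elements of `H ∩ N`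
  have hin : ∀ (s : ℕ) [Fact s.Prime] (S : Sylow s D) (x : H) (k : ℕ), (x : G) ∈ N → x ^ s ^ k = 1 →
      x ∈ (S : Subgroup D).map D.subtype := by
    intro s _ S x k hxN hxs
    have hSn : (S : Subgroup D).Normal := by
      have := hDsyl s S
      refine ⟨fun z hz g => ?_⟩
      obtain ⟨w, hw, hwe⟩ := this.conj_mem _ (mem_map_of_mem _ hz) (g : H)
      rwa [show g * z * g⁻¹ = w from Subtype.ext hwe.symm]
    obtain ⟨j, -, hj⟩ := (Nat.dvd_prime_pow (Fact.out)).mp (orderOf_dvd_of_pow_eq_one hxs)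
    obtain ⟨T, hT⟩ := (IsPGroup.of_card (p := s) (n := j) (by
        rw [Nat.card_zpowers]
        exact (orderOf_coe (⟨x, hxN⟩ : D)).symm.trans hj) :
      IsPGroup s (zpowers (⟨x, hxN⟩ : D))).exists_le_sylow
    haveI : Subsingleton (Sylow s D) := (Sylow.unique_of_normal S hSn).instSubsingleton
    exact ⟨⟨x, hxN⟩, Subsingleton.elim T S ▸ hT (mem_zpowers _), rfl⟩
  -- step 1: `D_p` acts nontrivially on `Z(Q)`
  obtain ⟨Sp⟩ : Nonempty (Sylow p H) := inferInstance
  have hstep1 : ∃ d ∈ Dp', act hnorm d ≠ 1 := by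
    by_contra hall
    push Not at hall
    refine false_of_comparable hc hpN hpi (comparable_quotient hc hHN Sp W hWne hWN hWp hnorm ?_)
    intro x hx hxN
    obtain ⟨k, hk⟩ := Sp.isPGroup' ⟨x, hx⟩
    exact hall x (hin p Dp x k hxN (congrArg Subtype.val hk))
  obtain ⟨d₀, hd₀, hd₀ne⟩ := hstep1
  -- the module `Z(D_p)`
  set E : Subgroup G := Dp'.map H.subtype with hE
  set W₂ : Subgroup G := (center E).map E.subtype with hW₂
  haveI hW₂c : IsMulCommutative W₂ := ⟨⟨by
    rintro ⟨_, a, ha, rfl⟩ ⟨_, b, -, rfl⟩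
    exact Subtype.ext (congrArg Subtype.val (mem_center_iff.mp ha b)).symm⟩⟩
  have hEN : E ≤ N := by
    rintro _ ⟨y, hy, rfl⟩; exact hDpN y hy
  have hEp : IsPGroup p E := hDpp.map _
  have hW₂ne : W₂ ≠ ⊥ := by
    haveI : Nontrivial E := (nontrivial_iff_ne_bot _).mpr fun h => by
      rw [hE, map_eq_bot_iff_of_injective _ H.subtype_injective] at h
      rw [h, mem_bot] at hd₀
      exact hd₀ne (by rw [hd₀, map_one])
    haveI := hEp.center_nontrivial
    exact fun h => (nontrivial_iff_ne_bot _).mp ‹Nontrivial (center E)›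
      ((map_eq_bot_iff_of_injective _ E.subtype_injective).mp h)
  have hHE : H ≤ normalizer (E : Set G) := by
    intro h hh
    refine mem_normalizer_iff.mpr fun z => ⟨?_, ?_⟩
    · rintro ⟨w, hw, rfl⟩
      exact ⟨⟨h, hh⟩ * w * ⟨h, hh⟩⁻¹, hDpn.conj_mem w hw _, rfl⟩
    · rintro ⟨w, hw, hwz⟩
      refine ⟨⟨h, hh⟩⁻¹ * w * ⟨h, hh⟩, by simpa using hDpn.conj_mem w hw (⟨h, hh⟩ : H)⁻¹, ?_⟩
      show h⁻¹ * (w : G) * h = z
      rw [show (w : G) = h * z * h⁻¹ from hwz]
      group
  have hW₂r : (Nat.card W₂).Coprime r := by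
    obtain ⟨k, hk⟩ := IsPGroup.iff_card.mp (hEp.to_le (map_subtype_le (center E)))
    rw [hk]; exact ((Nat.coprime_primes hp.out hr).mpr (Ne.symm hrp)).pow_left k
  -- step 2: `r` does not divide `|N|`
  have hrN : ¬ r ∣ Nat.card N := by
    intro hrN
    obtain ⟨Dr⟩ : Nonempty (Sylow r D) := inferInstance
    obtain ⟨Sr⟩ : Nonempty (Sylow r H) := inferInstance
    refine false_of_comparable hc hrN hri (comparable_quotient hc hHN Sr W₂ hW₂ne
      ((map_subtype_le _).trans hEN) hW₂r (center_map_le_normalizer hHE) ?_)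
    intro x hx hxN
    obtain ⟨k, hk⟩ := Sr.isPGroup' ⟨x, hx⟩
    have hxDr := hin r Dr x k hxN (congrArg Subtype.val hk)
    haveI := hDsyl r Dr
    have hdisj : Disjoint ((Dr : Subgroup D).map D.subtype) Dp' :=
      IsPGroup.disjoint_of_ne r p hrp _ _ (Dr.isPGroup'.map _) hDpp
    apply MulEquiv.ext
    intro w
    apply Subtype.ext
    rw [act_apply]
    obtain ⟨e, -, hew⟩ := w.2
    obtain ⟨y, hy, hye⟩ := e.2
    have h1 : (x : G) * y = y * x :=
      congrArg Subtype.val (commute_of_normal_of_disjoint _ _ (hDsyl r Dr) hDpn hdisj x y hxDr hy)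
    show (x : G) * (w : G) * (x : G)⁻¹ = w
    rw [← hew, show E.subtype e = (y : G) from hye.symm, h1, mul_inv_cancel_right]
  -- step 3: an element of order `r` outside `N`
  have hrH : r ∣ Nat.card H := by
    let f : H →* G ⧸ N := (QuotientGroup.mk' N).comp H.subtype
    have hf : Function.Surjective f := by
      rw [← MonoidHom.range_eq_top, MonoidHom.range_comp, range_subtype]
      have h1 := congrArg (Subgroup.map (QuotientGroup.mk' N)) hHN
      rwa [Subgroup.map_sup, QuotientGroup.map_mk'_self, sup_bot_eq,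
        map_top_of_surjective _ (QuotientGroup.mk'_surjective N)] at h1
    exact hri.trans (card_dvd_of_surjective f hf)
  obtain ⟨u, hu⟩ := exists_prime_orderOf_dvd_card' r hrH
  have huN : (u : G) ∉ N := fun h => hrN (by
    rw [← hu, ← orderOf_coe u, ← orderOf_mk (u : G) h]; exact orderOf_dvd_natCard _)
  have hu' : orderOf u = r ^ 1 := by rw [pow_one, hu]
  have hfree : ∀ d ∈ Dp', Commute u d → d = 1 := by
    intro d hd hcd
    have h1 := pow_eq_one hc huN (hDpN d hd) (congrArg Subtype.val hcd.eq : (u : G) * d = d * u)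
    rw [orderOf_coe, hu] at h1
    obtain ⟨k, hk⟩ := hDpp ⟨d, hd⟩
    have h2 : d ^ p ^ k = 1 := congrArg Subtype.val hk
    have h3 : d ^ r = 1 := Subtype.ext h1
    have h4 := Nat.dvd_gcd (orderOf_dvd_of_pow_eq_one h2) (orderOf_dvd_of_pow_eq_one h3)
    rw [(((Nat.coprime_primes hp.out hr).mpr (Ne.symm hrp)).pow_left k).gcd_eq_one] at h4
    exact orderOf_eq_one_iff.mp (Nat.dvd_one.mp h4)
  have hWr' : (Nat.card W).Coprime r := by
    obtain ⟨k, hk⟩ := IsPGroup.iff_card.mp hWq
    rw [hk]; exact ((Nat.coprime_primes hq hr).mpr fun h => hrN (h ▸ hqN)).pow_left k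
  have hWD : (Nat.card W).Coprime (Nat.card Dp') := by
    obtain ⟨k, hk⟩ := IsPGroup.iff_card.mp hDpp
    rw [hk]; exact hWp.pow_right k
  open scoped IsMulCommutative in
  exact hd₀ne (frobenius_kernel_trivial (act hnorm) Dp' hu
    (by rw [normalizer_eq_top]; trivial) hfree
    (fun w hw => act_fixed_eq_one hc hnorm hWN huN hu' hWr' hw) hWD d₀ hd₀)

end Cfsg.Agent.Lib.CaminaPair
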